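import Mathlib

/-!
# Coproducts of distinguished triangles are distinguished (helper5)
-/
set_option autoImplicit false
set_option linter.unusedSectionVars false
set_option linter.unusedVariables false
open CategoryTheory CategoryTheory.Limits CategoryTheory.Pretriangulated

namespace Groth.Agent.Lib.Helper5.CoprodTri

variable {C : Type*} [Category C] [Preadditive C] [HasZeroObject C] [HasShift C ℤ]
  [∀ n : ℤ, (shiftFunctor C n).Additive] [Pretriangulated C]

/-- the shift of a coproduct is a coproduct of the shifts -/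
noncomputable def isColimitShift {J : Type*} (X : J → C) [HasCoproduct X] :
    IsColimit (Cofan.mk ((∐ X)⟦(1 : ℤ)⟧) (fun j => (Sigma.ι X j)⟦(1 : ℤ)⟧')) :=
  haveI : PreservesColimit (Discrete.functor X) (shiftFunctor C (1 : ℤ)) :=
    ((shiftEquiv C (1 : ℤ)).toAdjunction.leftAdjoint_preservesColimits).preservesColimitsOfShape.preservesColimit
  isColimitCofanMkObjOfIsColimit (shiftFunctor C (1 : ℤ)) _ (Sigma.ι X) (coproductIsCoproduct X)

/-- **a coproduct of distinguished triangles is distinguished** (for a suitable third map) -/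
theorem exists_coproduct_triangle {J : Type*} (T : J → Triangle C)
    (hT : ∀ j, T j ∈ distTriang C) [HasCoproduct (fun j => (T j).obj₁)]
    [HasCoproduct (fun j => (T j).obj₂)] [HasCoproduct (fun j => (T j).obj₃)] :
    ∃ h : (∐ fun j => (T j).obj₃) ⟶ (∐ fun j => (T j).obj₁)⟦(1 : ℤ)⟧,
      Triangle.mk (Limits.Sigma.map fun j => (T j).mor₁) (Limits.Sigma.map fun j => (T j).mor₂) h ∈
        distTriang C := by
  classical
  let X : J → C := fun j => (T j).obj₁
  let Y : J → C := fun j => (T j).obj₂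
  let Z : J → C := fun j => (T j).obj₃
  haveI : HasCoproduct X := inferInstanceAs (HasCoproduct fun j => (T j).obj₁)
  haveI : HasCoproduct Y := inferInstanceAs (HasCoproduct fun j => (T j).obj₂)
  haveI : HasCoproduct Z := inferInstanceAs (HasCoproduct fun j => (T j).obj₃)
  let f : (∐ X) ⟶ ∐ Y := Limits.Sigma.map fun j => (T j).mor₁
  obtain ⟨Z', g', h', hT'⟩ := distinguished_cocone_triangle f
  -- the comparison maps
  have hφ : ∀ j, ∃ c : Z j ⟶ Z', (T j).mor₂ ≫ c = Sigma.ι Y j ≫ g' ∧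
      (T j).mor₃ ≫ (Sigma.ι X j)⟦(1 : ℤ)⟧' = c ≫ h' := fun j =>
    complete_distinguished_triangle_morphism (T j) (Triangle.mk f g' h') (hT j) hT'
      (Sigma.ι X j) (Sigma.ι Y j) (by
        change (T j).mor₁ ≫ Sigma.ι Y j = Sigma.ι X j ≫ f
        simp [f, X, Y])
  choose c hc2 hc3 using hφ
  let cc : (∐ Z) ⟶ Z' := Sigma.desc c
  have hX1 := isColimitShift X
  have hY1 := isColimitShift Y
  -- `cc` is an isomorphism
  have hiso : IsIso cc := by
    refine isIso_of_coyoneda_map_bijective _ (fun A => ⟨?_, ?_⟩)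
    · -- injectivity
      intro b₁ b₂ hb
      have key : ∀ b : Z' ⟶ A, cc ≫ b = 0 → b = 0 := by
        intro b hb0
        have hcb : ∀ j, c j ≫ b = 0 := by
          intro j
          have := congrArg (fun t => Sigma.ι Z j ≫ t) hb0
          simpa [cc] using this
        have h1 : g' ≫ b = 0 := by
          apply Sigma.hom_ext
          intro j
          rw [← Category.assoc, ← hc2 j, Category.assoc, hcb j, comp_zero, comp_zero]
        obtain ⟨b', hb'⟩ : ∃ b' : (∐ X)⟦(1 : ℤ)⟧ ⟶ A, b = h' ≫ b' :=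
          Triangle.yoneda_exact₃ _ hT' b h1
        -- components of `b'`
        have h2 : ∀ j, (T j).mor₃ ≫ (Sigma.ι X j)⟦(1 : ℤ)⟧' ≫ b' = 0 := by
          intro j
          rw [← Category.assoc, hc3 j, Category.assoc]
          have : h' ≫ b' = b := hb'.symm
          rw [this, hcb j]
        have h3 : ∀ j, ∃ d : (Y j)⟦(1 : ℤ)⟧ ⟶ A,
            (Sigma.ι X j)⟦(1 : ℤ)⟧' ≫ b' = (-(T j).mor₁⟦(1 : ℤ)⟧') ≫ d := fun j =>
          Triangle.yoneda_exact₃ _ (rot_of_distTriang _ (hT j)) _ (h2 j)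
        choose d hd using h3
        let dd : (∐ Y)⟦(1 : ℤ)⟧ ⟶ A := Cofan.IsColimit.desc hY1 d
        have hdd : ∀ j, (Sigma.ι Y j)⟦(1 : ℤ)⟧' ≫ dd = d j := fun j =>
          Cofan.IsColimit.fac hY1 d j
        have h4 : b' = (-f⟦(1 : ℤ)⟧') ≫ dd := by
          refine Cofan.IsColimit.hom_ext hX1 _ _ (fun j => ?_)
          change (Sigma.ι X j)⟦(1 : ℤ)⟧' ≫ b' = (Sigma.ι X j)⟦(1 : ℤ)⟧' ≫ (-f⟦(1 : ℤ)⟧') ≫ dd
          rw [hd j, Preadditive.neg_comp, Preadditive.neg_comp, Preadditive.comp_neg,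
            ← Category.assoc ((Sigma.ι X j)⟦(1 : ℤ)⟧'), ← Functor.map_comp]
          have : Sigma.ι X j ≫ f = (T j).mor₁ ≫ Sigma.ι Y j := by simp [f, X, Y]
          rw [this, Functor.map_comp, Category.assoc, hdd j]
        have h5 : h' ≫ f⟦(1 : ℤ)⟧' = 0 := comp_distTriang_mor_zero₃₁ _ hT'
        rw [hb', h4, Preadditive.neg_comp, Preadditive.comp_neg, ← Category.assoc, h5, zero_comp,
          neg_zero]
      have := key (b₁ - b₂) (by
        rw [Preadditive.comp_sub]
        exact sub_eq_zero.2 hb)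
      exact sub_eq_zero.1 this
    · -- surjectivity
      intro a
      let y : (∐ Y) ⟶ A := Sigma.desc (fun j => (T j).mor₂ ≫ Sigma.ι Z j ≫ a)
      have hy : f ≫ y = 0 := by
        apply Sigma.hom_ext
        intro j
        have h1 : Sigma.ι X j ≫ f = (T j).mor₁ ≫ Sigma.ι Y j := by simp [f, X, Y]
        rw [← Category.assoc, h1, Category.assoc, comp_zero]
        change (T j).mor₁ ≫ Sigma.ι Y j ≫ Sigma.desc _ = 0
        rw [Sigma.ι_desc, ← Category.assoc, comp_distTriang_mor_zero₁₂ _ (hT j), zero_comp]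
      obtain ⟨b₀, hb₀⟩ : ∃ b₀ : Z' ⟶ A, y = g' ≫ b₀ := Triangle.yoneda_exact₂ _ hT' y hy
      have h2 : ∀ j, (T j).mor₂ ≫ (Sigma.ι Z j ≫ a - c j ≫ b₀) = 0 := by
        intro j
        rw [Preadditive.comp_sub, ← Category.assoc _ (c j), hc2 j, Category.assoc]
        have : g' ≫ b₀ = y := hb₀.symm
        rw [this]
        change _ - Sigma.ι Y j ≫ Sigma.desc _ = 0
        rw [Sigma.ι_desc, sub_self]
      have h3 : ∀ j, ∃ e : (X j)⟦(1 : ℤ)⟧ ⟶ A,
          Sigma.ι Z j ≫ a - c j ≫ b₀ = (T j).mor₃ ≫ e := fun j =>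
        Triangle.yoneda_exact₃ _ (hT j) _ (h2 j)
      choose e he using h3
      let ee : (∐ X)⟦(1 : ℤ)⟧ ⟶ A := Cofan.IsColimit.desc hX1 e
      have hee : ∀ j, (Sigma.ι X j)⟦(1 : ℤ)⟧' ≫ ee = e j := fun j =>
        Cofan.IsColimit.fac hX1 e j
      refine ⟨b₀ + h' ≫ ee, ?_⟩
      apply Sigma.hom_ext
      intro j
      change Sigma.ι Z j ≫ cc ≫ (b₀ + h' ≫ ee) = Sigma.ι Z j ≫ a
      rw [← Category.assoc]
      have : Sigma.ι Z j ≫ cc = c j := Sigma.ι_desc _ _
      rw [this, Preadditive.comp_add, ← Category.assoc (c j), ← hc3 j, Category.assoc, hee j,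
        ← he j]
      abel
  -- conclusion
  haveI := hiso
  refine ⟨cc ≫ h', ?_⟩
  refine isomorphic_distinguished _ hT' _ ?_
  exact Triangle.isoMk _ _ (Iso.refl _) (Iso.refl _) (@asIso _ _ _ _ cc hiso)
    (by
      change f ≫ 𝟙 _ = 𝟙 _ ≫ f
      rw [Category.comp_id, Category.id_comp])
    (by
      change (Limits.Sigma.map fun j => (T j).mor₂) ≫ cc = 𝟙 _ ≫ g'
      rw [Category.id_comp]
      apply Sigma.hom_ext
      intro j
      rw [← Category.assoc, Sigma.ι_map, Category.assoc]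
      have : Sigma.ι Z j ≫ cc = c j := Sigma.ι_desc _ _
      change (T j).mor₂ ≫ Sigma.ι Z j ≫ cc = _
      rw [this, hc2 j])
    (by
      change (cc ≫ h') ≫ (𝟙 (∐ X))⟦(1 : ℤ)⟧' = cc ≫ h'
      rw [CategoryTheory.Functor.map_id, Category.comp_id])

end Groth.Agent.Lib.Helper5.CoprodTri
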