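import Mathlib
import Groth.Agent.Lib.Helper3.NatCompact

/-!
# Maps from relatively compact objects into homotopy colimits; a criterion for a homotopy
colimit (helper5)
-/
set_option autoImplicit false
set_option linter.unusedSectionVars false
set_option linter.unusedVariables false
universe v u
open CategoryTheory CategoryTheory.Limits CategoryTheory.Pretriangulated

namespace Groth.Agent.Lib.Helper5.HocoAbs

open Groth.Agent.Helper3.NatCompact

section FinOn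

variable {D : Type u} [Category.{v} D] [Preadditive D]

/-- maps from `P` into coproducts of the family `E` have finite support -/
def FinOn (P : D) (E : ℕ → D) : Prop :=
  ∀ (X : D) (ι : ∀ n, E n ⟶ X) (_ : IsColimit (Cofan.mk X ι)) (g : P ⟶ X),
    ∃ (S : Finset ℕ) (x : ∀ n, P ⟶ E n), g = ∑ n ∈ S, x n ≫ ι n

variable {P : D} {E : ℕ → D} (hP : FinOn P E) {X : D} (ι : ∀ n, E n ⟶ X)
  (hc : IsColimit (Cofan.mk X ι))

include hP in
lemma FinOn.eq_sum_proj (g : P ⟶ X) :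
    ∃ S : Finset ℕ, g = ∑ n ∈ S, (g ≫ proj ι hc n) ≫ ι n ∧ ∀ n, n ∉ S → g ≫ proj ι hc n = 0 := by
  obtain ⟨S, x, hx⟩ := hP X ι hc g
  have h1 : ∀ k, g ≫ proj ι hc k = if k ∈ S then x k else 0 := by
    intro k
    rw [hx, Preadditive.sum_comp]
    by_cases hk : k ∈ S
    · rw [if_pos hk, Finset.sum_eq_single k]
      · rw [Category.assoc, inj_proj_self, Category.comp_id]
      · intro m _ hm
        rw [Category.assoc, inj_proj_ne ι hc hm, comp_zero]
      · intro h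
        exact absurd hk h
    · rw [if_neg hk]
      apply Finset.sum_eq_zero
      intro m hm
      have : m ≠ k := fun e => hk (e ▸ hm)
      rw [Category.assoc, inj_proj_ne ι hc this, comp_zero]
  refine ⟨S, ?_, fun n hn => by rw [h1, if_neg hn]⟩
  conv_lhs => rw [hx]
  apply Finset.sum_congr rfl
  intro n hn
  rw [h1, if_pos hn]

variable (f : ∀ n, E n ⟶ E (n + 1)) (d : X ⟶ X) (hd : ∀ n, ι n ≫ d = ι n - f n ≫ ι (n + 1))

include hP hd hc in
/-- `𝟙 - shift` is injective on maps from `P` -/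
lemma d_injective_finOn (g : P ⟶ X) (hg : g ≫ d = 0) : g = 0 := by
  have h0 : ∀ k, g ≫ proj ι hc k = 0 := by
    intro k
    induction k with
    | zero =>
      rw [← d_proj_zero ι hc f d hd, ← Category.assoc, hg, zero_comp]
    | succ k ih =>
      have h1 : g ≫ d ≫ proj ι hc (k + 1) = 0 := by rw [← Category.assoc, hg, zero_comp]
      rw [d_proj_succ ι hc f d hd, Preadditive.comp_sub, ← Category.assoc g, ih, zero_comp,
        sub_zero] at h1
      exact h1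
  obtain ⟨S, hS, -⟩ := hP.eq_sum_proj ι hc g
  rw [hS]
  apply Finset.sum_eq_zero
  intro n _
  rw [h0, zero_comp]

end FinOn

section Hocolim

variable {D : Type u} [Category.{v} D] [Preadditive D] [HasZeroObject D] [HasShift D ℤ]
  [∀ n : ℤ, (shiftFunctor D n).Additive] [Pretriangulated D]
  (F : ℕ ⥤ D) {X : D} (ι : ∀ n, F.obj n ⟶ X)
  (hc : IsColimit (Cofan.mk X ι)) (d : X ⟶ X)
  (hd : ∀ n, ι n ≫ d = ι n - F.map (homOfLE (Nat.le_succ n)) ≫ ι (n + 1))
  {L : D} (π : X ⟶ L) (δ : L ⟶ X⟦(1 : ℤ)⟧) (hT : Triangle.mk d π δ ∈ distTriang D)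

/-- compatibility of a cocone-like family with all transition maps -/
lemma map_comp_eq {K : D} (i : ∀ n, F.obj n ⟶ K)
    (hi : ∀ n, F.map (homOfLE (Nat.le_succ n)) ≫ i (n + 1) = i n) {n m : ℕ} (h : n ≤ m) :
    F.map (homOfLE h) ≫ i m = i n := by
  induction m, h using Nat.le_induction with
  | base =>
    have : homOfLE (le_refl n) = 𝟙 n := Subsingleton.elim _ _
    rw [this, F.map_id, Category.id_comp]
  | succ m hm ih =>
    have h1 : homOfLE (hm.trans (Nat.le_succ m)) = homOfLE hm ≫ homOfLE (Nat.le_succ m) :=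
      Subsingleton.elim _ _
    rw [h1, F.map_comp, Category.assoc, hi, ih]

include hc hd hT in
/-- a map from `P` to the homotopy colimit factors through a finite stage -/
lemma exists_factor_finOn {P : D} (hP : FinOn P (fun n => F.obj n))
    (hP1 : FinOn P (fun n => (F.obj n)⟦(1 : ℤ)⟧)) (φ : P ⟶ L) :
    ∃ (N : ℕ) (u : P ⟶ F.obj N), u ≫ ι N ≫ π = φ := by
  classical
  have hc1 : IsColimit (Cofan.mk ((shiftFunctor D (1 : ℤ)).obj X)
      (fun n => (shiftFunctor D (1 : ℤ)).map (ι n))) :=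
    isColimitCofanMkObjOfIsColimit (shiftFunctor D (1 : ℤ)) _ ι hc
  have h1 : φ ≫ δ = 0 := by
    refine d_injective_finOn hP1
      (fun n => (shiftFunctor D (1 : ℤ)).map (ι n)) hc1
      (fun n => (shiftFunctor D (1 : ℤ)).map (F.map (homOfLE (Nat.le_succ n))))
      ((shiftFunctor D (1 : ℤ)).map d) ?_ (φ ≫ δ) ?_
    · intro n
      rw [← Functor.map_comp, hd, Functor.map_sub, Functor.map_comp]
    · have h3 : δ ≫ (shiftFunctor D (1 : ℤ)).map d = 0 := comp_distTriang_mor_zero₃₁ _ hT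
      rw [Category.assoc, h3, comp_zero]
  obtain ⟨σ, hσ⟩ : ∃ σ : P ⟶ X, φ = σ ≫ π := Triangle.coyoneda_exact₃ _ hT φ h1
  obtain ⟨S, x, hx⟩ := hP X ι hc σ
  let N := S.sup id
  obtain ⟨u, hu⟩ := exists_factor_range F ι d hd π δ hT N (fun n => if n ∈ S then x n else 0)
  refine ⟨N, u, ?_⟩
  rw [hu, hσ, hx, Preadditive.sum_comp]
  have hsub : S ⊆ Finset.range (N + 1) := by
    intro n hn
    rw [Finset.mem_range]
    exact Nat.lt_succ_of_le (Finset.le_sup (f := id) hn)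
  rw [← Finset.sum_subset hsub]
  · apply Finset.sum_congr rfl
    intro n hn
    rw [if_pos hn, Category.assoc]
  · intro n _ hn
    rw [if_neg hn, zero_comp]

variable {K : D} (i : ∀ n, F.obj n ⟶ K)
  (hi : ∀ n, F.map (homOfLE (Nat.le_succ n)) ≫ i (n + 1) = i n)
  (φ : L ⟶ K) (hφ : ∀ n, ι n ≫ π ≫ φ = i n)

include hc hd hT hi hφ in
/-- **criterion**: the fibre of the comparison map from a homotopy colimit receives no maps
from the test objects -/
theorem hom_fibre_eq_zero (Pr : D → Prop) (hsh : ∀ P, Pr P → Pr (P⟦(1 : ℤ)⟧))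
    (hfin : ∀ P, Pr P → FinOn P (fun n => F.obj n) ∧ FinOn P (fun n => (F.obj n)⟦(1 : ℤ)⟧))
    (hA : ∀ P, Pr P → ∀ ψ : P ⟶ K, ∃ (n : ℕ) (ψ' : P ⟶ F.obj n), ψ' ≫ i n = ψ)
    (hB : ∀ P, Pr P → ∃ N : ℕ, ∀ n, N ≤ n → ∀ u : P ⟶ F.obj n, u ≫ i n = 0 → u = 0)
    {Fb : D} (s : Fb ⟶ L) (r : K ⟶ Fb⟦(1 : ℤ)⟧) (hF : Triangle.mk s φ r ∈ distTriang D)
    (P : D) (hP : Pr P) (ξ : P ⟶ Fb) : ξ = 0 := by
  -- injectivity on maps to `L`
  have hb : ∀ Q, Pr Q → ∀ ψ : Q ⟶ L, ψ ≫ φ = 0 → ψ = 0 := by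
    intro Q hQ ψ hψ
    obtain ⟨N, u, hu⟩ := exists_factor_finOn F ι hc d hd π δ hT (hfin Q hQ).1 (hfin Q hQ).2 ψ
    obtain ⟨N', hN'⟩ := hB Q hQ
    have hle : N ≤ max N N' := le_max_left _ _
    have h1 : (u ≫ F.map (homOfLE hle)) ≫ i (max N N') = 0 := by
      rw [Category.assoc, map_comp_eq F i hi hle, ← hφ N, ← Category.assoc, ← Category.assoc,
        Category.assoc u, hu, hψ]
    have h2 := hN' _ (le_max_right _ _) _ h1
    have h3 : ι N ≫ π = F.map (homOfLE hle) ≫ ι (max N N') ≫ π :=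
      (map_comp_eq F (fun n => ι n ≫ π) (fun n => (i_eq F ι d hd π δ hT n).symm) hle).symm
    rw [← hu, h3, ← Category.assoc, h2, zero_comp]
  -- surjectivity on maps to `K`
  have ha : ∀ Q, Pr Q → ∀ ψ : Q ⟶ K, ∃ ψ' : Q ⟶ L, ψ' ≫ φ = ψ := by
    intro Q hQ ψ
    obtain ⟨n, ψ', hψ'⟩ := hA Q hQ ψ
    exact ⟨ψ' ≫ ι n ≫ π, by rw [Category.assoc, Category.assoc, hφ, hψ']⟩
  have h1 : ξ ≫ s = 0 := hb P hP _ (by
    rw [Category.assoc]
    have : s ≫ φ = 0 := comp_distTriang_mor_zero₁₂ _ hF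
    rw [this, comp_zero])
  have hrot := rot_of_distTriang _ (rot_of_distTriang _ hF)
  obtain ⟨ζ, hζ⟩ : ∃ ζ : P⟦(1 : ℤ)⟧ ⟶ K, ξ⟦(1 : ℤ)⟧' = ζ ≫ r := by
    refine Triangle.coyoneda_exact₂ _ hrot (ξ⟦(1 : ℤ)⟧') ?_
    change ξ⟦(1 : ℤ)⟧' ≫ (-s⟦(1 : ℤ)⟧') = 0
    rw [Preadditive.comp_neg, ← Functor.map_comp, h1, Functor.map_zero, neg_zero]
  obtain ⟨ζ', hζ'⟩ := ha _ (hsh P hP) ζ
  have h2 : ξ⟦(1 : ℤ)⟧' = 0 := by
    have : φ ≫ r = 0 := comp_distTriang_mor_zero₂₃ _ hF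
    rw [hζ, ← hζ', Category.assoc, this, comp_zero]
  exact (shiftFunctor D (1 : ℤ)).map_injective (by rw [h2, Functor.map_zero])

end Hocolim

end Groth.Agent.Lib.Helper5.HocoAbs
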