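import Mathlib
import Groth.Agent.Lib.Helper5.Hoco.HocoAbs
import Groth.Agent.Lib.Helper5.Approx.Sharp
import Groth.Agent.Lib.Helper5.BrownU.DQCohBrown
import Groth.Agent.Lib.Helper5.BvdB.GenMV
import Groth.Agent.Lib.Helper5.BvdB.ShriekCpt
import Groth.Agent.Lib.Helper5.KoszulOrth.Trunc
import Groth.Agent.Lib.Helper5.TwoTerm.TSOrth

/-!
# Pseudo-coherent objects are homotopy colimits of perfect objects (helper5)
-/
set_option autoImplicit false
set_option linter.unusedSectionVars false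
set_option linter.unusedVariables false
universe u
open CategoryTheory CategoryTheory.Limits AlgebraicGeometry Pretriangulated TopologicalSpace
open scoped ZeroObject
attribute [local instance] HasDerivedCategory.standard

namespace Groth.Agent.Lib.Helper5.HocoPerf

open Groth.Agent.Lib.Helper5 Groth.Agent.Lib.Helper5.QC
  Groth.Agent.Lib.Helper5.TildePC Groth.Agent.Lib.Helper5.PerfTri
  Groth.Agent.Lib.Helper5.CountHom Groth.Agent.Lib.Helper5.HomVanish
  Groth.Agent.Lib.Helper5.BvdB Groth.Agent.Lib.Helper5.RpushSupp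
  Groth.Agent.Lib.Helper5.LocalCoh Groth.Agent.Lib.Helper5.PCApprox
  Groth.Agent.Lib.Helper5.PCTri Groth.Agent.Lib.Helper5.IsoSq
  Groth.Agent.Lib.Helper5.PCTop Groth.Agent.Lib.Helper5.PCSingle
  Groth.Agent.Lib.Helper5.LpullLib Groth.Agent.Lib.Helper5.PCBiprod
  Groth.Agent.Lib.Helper5.Approx Groth.Agent.Lib.Helper5.BrownU
  Groth.Agent.Lib.Helper5.HocoAbs Groth.Agent.Lib.Helper5.KoszulOrth

open DerivedCategory.HomologySequence

variable {X : Scheme.{u}}

/-- countable coproducts of objects of `D_QCoh` are in `D_QCoh` -/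
theorem isQCohD_sigma_nat (E : ℕ → DCoh.D X) (hE : ∀ n, DCoh.IsQCohD (E n)) [HasCoproduct E] :
    DCoh.IsQCohD (∐ E) := by
  let E' : ULift.{u} ℕ → DCoh.D X := fun k => E k.down
  have hc' : IsColimit (Cofan.mk (∐ E) (fun k : ULift.{u} ℕ => Sigma.ι E k.down)) :=
    mkCofanColimit _ (fun s => Sigma.desc (fun k => s.inj ⟨k⟩))
      (fun s k => by
        have h1 := Sigma.ι_desc (fun k => s.inj ⟨k⟩) k.down
        exact h1)
      (fun s m hm => by
        refine Sigma.hom_ext (f := E) _ _ (fun k => ?_)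
        have h1 := Sigma.ι_desc (fun k => s.inj ⟨k⟩) k
        exact (hm ⟨k⟩).trans h1.symm)
  haveI : HasCoproduct E' := ⟨⟨⟨_, hc'⟩⟩⟩
  have e : ∐ E' ≅ ∐ E := IsColimit.coconePointUniqueUpToIso (colimit.isColimit _) hc'
  exact isQCohD_of_iso e (isQCohD_sigma E' (fun k => hE k.down))

/-- maps from a perfect object into sufficiently negative objects of `D_QCoh` vanish -/
theorem exists_bound_of_isPerfect [CompactSpace X] [QuasiSeparatedSpace X] (P : DCoh.D X)
    (hP : DCoh.IsPerfect P) :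
    ∃ a : ℤ, ∀ L : DCoh.D X, DCoh.IsQCohD L → L.IsLE (a - 1) → ∀ φ : P ⟶ L, φ = 0 := by
  obtain ⟨a, b, hab, h⟩ := exists_range_of_isPerfect P hP
  refine ⟨a, fun L hL hLE φ => h L hL (fun i hi _ => ?_) φ⟩
  exact DerivedCategory.isZero_of_isLE L (a - 1) i (by omega)

/-- perfect objects have finite support on countable coproducts of objects of `D_QCoh` -/
theorem finOn_of_isPerfect [CompactSpace X] [QuasiSeparatedSpace X] (P : DCoh.D X)
    (hP : DCoh.IsPerfect P) (E : ℕ → DCoh.D X) (hE : ∀ n, DCoh.IsQCohD (E n)) : FinOn P E :=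
  fun Xc ι hc g => weakCptRel_nat (weakCptRel_of_isPerfect P hP) E Xc ι hc hE g

/-- **criterion for a homotopy colimit of perfect objects** -/
theorem isHocolim_of_cones [CompactSpace X] [QuasiSeparatedSpace X]
    [HasColimitsOfShape (Discrete ℕ) (DCoh.D X)] (K : DCoh.D X) (hK : DCoh.IsQCohD K)
    (E : ℕ → DCoh.D X) (f : ∀ n, E n ⟶ E (n + 1)) (i : ∀ n, E n ⟶ K)
    (hE : ∀ n, DCoh.IsPerfect (E n)) (hi : ∀ n, f n ≫ i (n + 1) = i n)
    (hC : ∀ n : ℕ, ∃ (C : DCoh.D X) (π : K ⟶ C) (δ : C ⟶ (E n)⟦(1 : ℤ)⟧),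
      Triangle.mk (i n) π δ ∈ distTriang _ ∧ C.IsLE (-(n : ℤ) - 1)) :
    DerLim.IsHocolim E f K i := by
  classical
  have hEq : ∀ n, DCoh.IsQCohD (E n) := fun n => isQCohD_of_isPerfect (E n) (hE n)
  let F : ℕ ⥤ DCoh.D X := Functor.ofSequence f
  have hFmap : ∀ n, F.map (homOfLE (Nat.le_succ n)) = f n :=
    fun n => Functor.ofSequence_map_homOfLE_succ f n
  let ι : ∀ n, F.obj n ⟶ ∐ E := fun n => Sigma.ι E n
  have hc : IsColimit (Cofan.mk (∐ E) ι) := coproductIsCoproduct E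
  let d : (∐ E) ⟶ ∐ E := 𝟙 _ - DerLim.shiftMap E f
  have hd : ∀ n, ι n ≫ d = ι n - F.map (homOfLE (Nat.le_succ n)) ≫ ι (n + 1) := by
    intro n
    rw [hFmap]
    change Sigma.ι E n ≫ (𝟙 _ - DerLim.shiftMap E f) = Sigma.ι E n - f n ≫ Sigma.ι E (n + 1)
    rw [Preadditive.comp_sub, Category.comp_id]
    congr 1
    exact Sigma.ι_desc _ n
  obtain ⟨L, π, δ, hT⟩ := distinguished_cocone_triangle d
  have hdi : d ≫ Sigma.desc i = 0 := by
    apply Sigma.hom_ext
    intro n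
    have h1 := hd n
    rw [hFmap] at h1
    change Sigma.ι E n ≫ d ≫ Sigma.desc i = Sigma.ι E n ≫ 0
    rw [← Category.assoc]
    change (ι n ≫ d) ≫ Sigma.desc i = _
    rw [h1, Preadditive.sub_comp, Category.assoc, comp_zero]
    change Sigma.ι E n ≫ Sigma.desc i - f n ≫ Sigma.ι E (n + 1) ≫ Sigma.desc i = 0
    rw [Sigma.ι_desc, Sigma.ι_desc, hi, sub_self]
  obtain ⟨φ, hφ⟩ : ∃ φ : L ⟶ K, Sigma.desc i = π ≫ φ :=
    Triangle.yoneda_exact₂ _ hT (Sigma.desc i) hdi
  have hφ' : ∀ n, ι n ≫ π ≫ φ = i n := by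
    intro n
    have h1 : π ≫ φ = Sigma.desc i := hφ.symm
    rw [h1]
    exact Sigma.ι_desc _ n
  have hi' : ∀ n, F.map (homOfLE (Nat.le_succ n)) ≫ i (n + 1) = i n := by
    intro n
    rw [hFmap]
    exact hi n
  obtain ⟨Fb, s, r, hF⟩ : ∃ (Fb : DCoh.D X) (s : Fb ⟶ L) (r : K ⟶ Fb⟦(1 : ℤ)⟧),
      Triangle.mk s φ r ∈ distTriang _ := distinguished_cocone_triangle₁ φ
  -- the fibre receives no maps from perfect objects
  have hmain : ∀ P : DCoh.D X, DCoh.IsPerfect P → ∀ ξ : P ⟶ Fb, ξ = 0 := by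
    refine hom_fibre_eq_zero F ι hc d hd π δ hT i hi' φ hφ' (fun P => DCoh.IsPerfect P)
      (fun P hP => isPerfect_shift hP 1) (fun P hP => ⟨?_, ?_⟩) ?_ ?_ s r hF
    · exact finOn_of_isPerfect P hP _ hEq
    · exact finOn_of_isPerfect P hP _ (fun n => isQCohD_shift _ (hEq n) 1)
    · intro P hP ψ
      obtain ⟨a, ha⟩ := exists_bound_of_isPerfect P hP
      let n : ℕ := (1 - a).toNat
      obtain ⟨C, πn, δn, hTn, hCn⟩ := hC n
      have hCq : DCoh.IsQCohD C :=
        isQCohD_of_triangle_right _ hTn (hEq n) hK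
      have hCle : C.IsLE (a - 1) :=
        (DerivedCategory.TStructure.t : Triangulated.TStructure (DCoh.D X)).isLE_of_le C
          (-(n : ℤ) - 1) (a - 1) (by
          have := Int.self_le_toNat (1 - a)
          omega)
      have h0 : ψ ≫ πn = 0 := ha C hCq hCle _
      obtain ⟨ψ', hψ'⟩ := Triangle.coyoneda_exact₂ _ hTn ψ h0
      exact ⟨n, ψ', hψ'.symm⟩
    · intro P hP
      obtain ⟨a, ha⟩ := exists_bound_of_isPerfect P hP
      refine ⟨(1 - a).toNat, fun n hn u hu => ?_⟩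
      obtain ⟨C, πn, δn, hTn, hCn⟩ := hC n
      have hCq : DCoh.IsQCohD C :=
        isQCohD_of_triangle_right _ hTn (hEq n) hK
      have hinv := inv_rot_of_distTriang _ hTn
      obtain ⟨w, hw⟩ := Triangle.coyoneda_exact₂ _ hinv u hu
      have hCs : (C⟦(-1 : ℤ)⟧).IsLE (a - 1) := by
        have h1 : (C⟦(-1 : ℤ)⟧).IsLE (-(n : ℤ)) :=
          (DerivedCategory.TStructure.t : Triangulated.TStructure (DCoh.D X)).isLE_shift C
            (-(n : ℤ) - 1) (-1) (-(n : ℤ)) (by omega)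
        exact (DerivedCategory.TStructure.t : Triangulated.TStructure (DCoh.D X)).isLE_of_le _
          (-(n : ℤ)) (a - 1) (by
          have := Int.self_le_toNat (1 - a)
          omega)
      have hw0 : w = 0 := ha _ (isQCohD_shift _ hCq (-1)) hCs w
      rw [hw, hw0]
      exact zero_comp
  -- hence the fibre vanishes
  obtain ⟨G, hG⟩ := exists_perfGen X
  have hLq : DCoh.IsQCohD L :=
    isQCohD_of_triangle_right _ hT (isQCohD_sigma_nat E hEq) (isQCohD_sigma_nat E hEq)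
  have hFq : DCoh.IsQCohD Fb := isQCohD_of_triangle_left _ hF hLq hK
  have hF0 : IsZero Fb :=
    hG.2 Fb hFq (fun n ξ => hmain _ (isPerfect_shift hG.1 n) ξ)
  haveI : IsIso φ := (Triangle.isZero₁_iff_isIso₂ _ hF).1 hF0
  refine ⟨inv φ ≫ δ, ?_⟩
  refine isomorphic_distinguished _ hT _ ?_
  exact Triangle.isoMk _ _ (Iso.refl _) (Iso.refl _) (asIso φ).symm
    (by
      change d ≫ 𝟙 _ = 𝟙 _ ≫ d
      rw [Category.comp_id, Category.id_comp])
    (by
      change Sigma.desc i ≫ inv φ = 𝟙 _ ≫ π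
      rw [Category.id_comp, hφ, Category.assoc, IsIso.hom_inv_id, Category.comp_id])
    (by
      change (inv φ ≫ δ) ≫ (𝟙 (∐ E))⟦(1 : ℤ)⟧' = inv φ ≫ δ
      rw [CategoryTheory.Functor.map_id, Category.comp_id])

end Groth.Agent.Lib.Helper5.HocoPerf
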