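import Mathlib
import Groth.Agent.Lib.Helper5.Hoco.HocoPerf

/-!
# Pseudo-coherent objects are homotopy colimits of perfect objects: the sequence (helper5)
-/
set_option autoImplicit false
set_option linter.unusedSectionVars false
set_option linter.unusedVariables false
universe u
open CategoryTheory CategoryTheory.Limits AlgebraicGeometry Pretriangulated TopologicalSpace
open scoped ZeroObject
attribute [local instance] HasDerivedCategory.standard

namespace Groth.Agent.Lib.Helper5.HocoPerf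

open Groth.Agent.Lib.Helper5 Groth.Agent.Lib.Helper5.QC
  Groth.Agent.Lib.Helper5.TildePC Groth.Agent.Lib.Helper5.PerfTri
  Groth.Agent.Lib.Helper5.CountHom Groth.Agent.Lib.Helper5.HomVanish
  Groth.Agent.Lib.Helper5.BvdB Groth.Agent.Lib.Helper5.RpushSupp
  Groth.Agent.Lib.Helper5.LocalCoh Groth.Agent.Lib.Helper5.PCApprox
  Groth.Agent.Lib.Helper5.PCTri Groth.Agent.Lib.Helper5.IsoSq
  Groth.Agent.Lib.Helper5.PCTop Groth.Agent.Lib.Helper5.PCSingle
  Groth.Agent.Lib.Helper5.LpullLib Groth.Agent.Lib.Helper5.PCBiprod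
  Groth.Agent.Lib.Helper5.Approx Groth.Agent.Lib.Helper5.BrownU
  Groth.Agent.Lib.Helper5.HocoAbs Groth.Agent.Lib.Helper5.KoszulOrth

open DerivedCategory.HomologySequence

variable {X : Scheme.{u}}

/-- if `τ_{≥ a} g` is an isomorphism then `g` is an approximation at level `a` -/
theorem isApprox_of_isIso_truncGE_map {A B : DCoh.D X} (g : A ⟶ B) (a : ℤ)
    (hg : IsIso (((DerivedCategory.TStructure.t : Triangulated.TStructure (DCoh.D X)).truncGE
      a).map g)) : IsApprox a g := by
  let t : Triangulated.TStructure (DCoh.D X) := DerivedCategory.TStructure.t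
  have key : ∀ j : ℤ, a ≤ j → IsIso ((DerivedCategory.homologyFunctor X.Modules j).map g) := by
    intro j hj
    have iπ : ∀ Y : DCoh.D X,
        IsIso ((DerivedCategory.homologyFunctor X.Modules j).map ((t.truncGEπ a).app Y)) := by
      intro Y
      have : ((t.triangleLTGE a).obj Y).obj₁.IsLE (a - 1) :=
        inferInstanceAs (t.IsLE ((t.triangleLTGE a).obj Y).obj₁ (a - 1))
      exact Helper5.TwoTerm.isIso_homologyMap_mor₂ _ (t.triangleLTGE_distinguished a Y) j (j + 1)
        rfl (DerivedCategory.isZero_of_isLE _ (a - 1) j (by omega))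
        (DerivedCategory.isZero_of_isLE _ (a - 1) (j + 1) (by omega))
    have nat : g ≫ (t.truncGEπ a).app B = (t.truncGEπ a).app A ≫ (t.truncGE a).map g :=
      (t.truncGEπ a).naturality g
    have h1 := congrArg (fun z => (DerivedCategory.homologyFunctor X.Modules j).map z) nat
    simp only [Functor.map_comp] at h1
    haveI := iπ A
    haveI := iπ B
    haveI : IsIso ((DerivedCategory.homologyFunctor X.Modules j).map ((t.truncGE a).map g)) :=
      inferInstance
    haveI : IsIso ((DerivedCategory.homologyFunctor X.Modules j).map g ≫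
        (DerivedCategory.homologyFunctor X.Modules j).map ((t.truncGEπ a).app B)) := by
      rw [h1]
      infer_instance
    exact IsIso.of_isIso_comp_right _
      ((DerivedCategory.homologyFunctor X.Modules j).map ((t.truncGEπ a).app B))
  refine ⟨fun j hj => key j (by omega), ?_⟩
  haveI := key a le_rfl
  infer_instance

/-- **an object which is approximated by perfect objects is pseudo-coherent** -/
theorem isPC_of_seq (K : DCoh.D X) (E : ℕ → DCoh.D X) (i : ∀ n, E n ⟶ K)
    (hE : ∀ n, DCoh.IsPerfect (E n))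
    (hi : ∀ n : ℕ, IsIso (((DerivedCategory.TStructure.t :
      Triangulated.TStructure (DCoh.D X)).truncGE (-(n : ℤ))).map (i n))) (m : ℤ) :
    DCoh.IsPseudoCoherentD m K := by
  let t : Triangulated.TStructure (DCoh.D X) := DerivedCategory.TStructure.t
  let n : ℕ := (-m).toNat
  have hn : -(n : ℤ) ≤ m := by
    have := Int.self_le_toNat (-m)
    omega
  obtain ⟨C, π, δ, hT⟩ := distinguished_cocone_triangle (i n)
  have happ : IsApprox (-(n : ℤ)) (i n) := isApprox_of_isIso_truncGE_map (i n) _ (hi n)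
  have hC : C.IsLE (-(n : ℤ) - 1) := isLE_cone_of_isApprox _ hT happ
  haveI : C.IsLE (m - 1) := t.isLE_of_le C (-(n : ℤ) - 1) (m - 1) (by omega)
  exact (isPC_triangle m _ hT).2.1 (isPseudoCoherentD_of_isPerfect (E n) (hE n) m)
    (isPC_of_isLE C m)

section Seq

variable [CompactSpace X] [QuasiSeparatedSpace X] (K : DCoh.D X) (W : X.Opens)

/-- a stage of the approximating sequence -/
structure Stage where
  n : ℕ
  P : DCoh.D X
  C : DCoh.D X
  α : P ⟶ K
  π : K ⟶ C
  δ : C ⟶ P⟦(1 : ℤ)⟧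
  hT : Triangle.mk α π δ ∈ distTriang (DCoh.D X)
  hP : DCoh.IsPerfect P
  hPW : VanishOn P (W : Set X)
  hC : C.IsLE (-(n : ℤ) - 1)

variable {K W}

theorem exists_stage (hW : IsCompact (W : Set X)) (hKW : VanishOn K (W : Set X))
    (hpc : ∀ m : ℤ, DCoh.IsPseudoCoherentD m K) (N : ℕ) : ∃ s : Stage K W, s.n = N := by
  obtain ⟨r, hr, h⟩ := approxHolds X W hW
  have hKq : DCoh.IsQCohD K := isQCohD_of_isPC K hpc
  have hv : VanishGE (-(N : ℤ) - r) K (W : Set X) := fun x hx n _ => hKW x hx n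
  obtain ⟨P, C, α, π, δ, hT, hP, hPW, hC⟩ := (h (-(N : ℤ)) K hKq (hpc _) hv).exists_P
  exact ⟨⟨N, P, C, α, π, δ, hT, hP, hPW, hC⟩, rfl⟩

theorem exists_next (hKq : DCoh.IsQCohD K) (hst : ∀ N : ℕ, ∃ s : Stage K W, s.n = N)
    (s : Stage K W) : ∃ (s' : Stage K W) (g : s.P ⟶ s'.P), s.n < s'.n ∧ g ≫ s'.α = s.α := by
  let t : Triangulated.TStructure (DCoh.D X) := DerivedCategory.TStructure.t
  obtain ⟨a, ha⟩ := exists_bound_of_isPerfect s.P s.hP
  obtain ⟨s', hs'⟩ := hst (max (s.n + 1) (1 - a).toNat)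
  have h1 : s.n + 1 ≤ s'.n := by rw [hs']; exact le_max_left _ _
  have h2 : (1 - a).toNat ≤ s'.n := by rw [hs']; exact le_max_right _ _
  have hCq : DCoh.IsQCohD s'.C :=
    isQCohD_of_triangle_right _ s'.hT (isQCohD_of_isPerfect _ s'.hP) hKq
  haveI := s'.hC
  have hCle : s'.C.IsLE (a - 1) := t.isLE_of_le s'.C (-(s'.n : ℤ) - 1) (a - 1) (by
    have := Int.self_le_toNat (1 - a)
    omega)
  have h0 : s.α ≫ s'.π = 0 := ha _ hCq hCle _
  obtain ⟨g, hg⟩ := Triangle.coyoneda_exact₂ _ s'.hT s.α h0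
  exact ⟨s', g, by omega, hg.symm⟩

end Seq

/-- **pseudo-coherent objects are homotopy colimits of perfect objects (with supports)** -/
theorem exists_hocolim_of_isPC [CompactSpace X] [QuasiSeparatedSpace X]
    [HasColimitsOfShape (Discrete ℕ) (DCoh.D X)] (W : X.Opens) (hW : IsCompact (W : Set X))
    (K : DCoh.D X) (hKW : VanishOn K (W : Set X))
    (hpc : ∀ m : ℤ, DCoh.IsPseudoCoherentD m K) :
    ∃ (E : ℕ → DCoh.D X) (f : ∀ n, E n ⟶ E (n + 1)) (i : ∀ n, E n ⟶ K),
      (∀ n, DCoh.IsPerfect (E n)) ∧ (∀ n, VanishOn (E n) (W : Set X)) ∧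
      DerLim.IsHocolim E f K i ∧
      ∀ n : ℕ, IsIso (((DerivedCategory.TStructure.t :
        Triangulated.TStructure (DCoh.D X)).truncGE (-(n : ℤ))).map (i n)) := by
  classical
  let t : Triangulated.TStructure (DCoh.D X) := DerivedCategory.TStructure.t
  have hKq : DCoh.IsQCohD K := isQCohD_of_isPC K hpc
  have hst := exists_stage hW hKW hpc
  let s0 : Stage K W := (hst 1).choose
  have hs0 : s0.n = 1 := (hst 1).choose_spec
  let next : Stage K W → Stage K W := fun s => (exists_next hKq hst s).choose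
  let seq : ℕ → Stage K W := fun k => Nat.rec s0 (fun _ s => next s) k
  have hseq : ∀ k, seq (k + 1) = next (seq k) := fun k => rfl
  let E : ℕ → DCoh.D X := fun k => (seq k).P
  let f : ∀ k, E k ⟶ E (k + 1) := fun k => (exists_next hKq hst (seq k)).choose_spec.choose
  let i : ∀ k, E k ⟶ K := fun k => (seq k).α
  have hfi : ∀ k, f k ≫ i (k + 1) = i k :=
    fun k => (exists_next hKq hst (seq k)).choose_spec.choose_spec.2
  have hlt : ∀ k, (seq k).n < (seq (k + 1)).n :=
    fun k => (exists_next hKq hst (seq k)).choose_spec.choose_spec.1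
  have hn : ∀ k : ℕ, k + 1 ≤ (seq k).n := by
    intro k
    induction k with
    | zero => exact hs0.ge
    | succ k ih => have := hlt k; omega
  refine ⟨E, f, i, fun k => (seq k).hP, fun k => (seq k).hPW, ?_, ?_⟩
  · refine isHocolim_of_cones K hKq E f i (fun k => (seq k).hP) hfi (fun k => ?_)
    haveI := (seq k).hC
    exact ⟨(seq k).C, (seq k).π, (seq k).δ, (seq k).hT,
      t.isLE_of_le _ (-((seq k).n : ℤ) - 1) (-(k : ℤ) - 1) (by have := hn k; omega)⟩
  · intro k
    have hinv := inv_rot_of_distTriang _ (seq k).hT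
    haveI := (seq k).hC
    have h1 : t.IsLE (((seq k).C)⟦(-1 : ℤ)⟧) (-((seq k).n : ℤ)) :=
      t.isLE_shift (seq k).C (-((seq k).n : ℤ) - 1) (-1) (-((seq k).n : ℤ)) (by omega)
    have h2 : t.IsLE (((seq k).C)⟦(-1 : ℤ)⟧) (-(k : ℤ) - 1) :=
      t.isLE_of_le _ (-((seq k).n : ℤ)) (-(k : ℤ) - 1) (by have := hn k; omega)
    exact isIso_truncGE_map_of_isLE_fibre t _ (i k) _ hinv (-(k : ℤ)) h2

end Groth.Agent.Lib.Helper5.HocoPerf
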